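import Groth.Agent.S5323
import Groth.Agent.Lib.ActSep.NeutralHom
import Groth.Agent.H47.ConsPreimage
import Groth.Agent.H4.NPowEtale
import Groth.Agent.Lib.ProCons45.Basic
import Groth.Prelude.Def_Red

/-!
Torsion sets of a commutative group scheme with respect to the neutral components of the fibres.
-/

set_option autoImplicit false
set_option backward.isDefEq.respectTransparency false
set_option backward.isDefEq.respectTransparency.types false

universe u

open CategoryTheory Limits MonoidalCategory CartesianMonoidalCategory MonObj AlgebraicGeometry Topology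

namespace Groth.Agent.Lib.TorsionSet

open Groth.Agent.Lib.ActSep Groth.Agent.Lib.LimTop.PC

variable {S : Scheme.{u}} (G : Over S) [GrpObj G]

/-- Points whose `n`-th power lies in the neutral set. -/
abbrev powSet (n : ℕ) : Set G.left :=
  {x | ((𝟙 G : G ⟶ G) ^ n).left x ∈ SGA3x.neutralSet G}

/-- Points some positive power of which lies in the neutral set. -/
abbrev tauSet : Set G.left := {x | ∃ n, 0 < n ∧ x ∈ powSet G n}

/-- The morphisms whose value at a given point lies in the neutral set. -/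
noncomputable def neutralSubgroup {T : Over S} (t : T.left) : Subgroup (T ⟶ G) where
  carrier := {f : T ⟶ G | f.left t ∈ SGA3x.neutralSet G}
  one_mem' := by
    show (1 : T ⟶ G).left t ∈ SGA3x.neutralSet G
    rw [left_one_apply]; exact η_mem_neutralSet G _
  mul_mem' {a b} ha hb := by
    have : a * b = lift a b⁻¹ ≫ divMap G := by
      simp [divMap, MonObj.comp_mul, GrpObj.comp_inv]
    show (a * b).left t ∈ SGA3x.neutralSet G
    rw [this, Over.comp_left, Scheme.Hom.comp_apply]
    refine divMap_mem G ?_ ?_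
    · rw [← Scheme.Hom.comp_apply, ← Over.comp_left, lift_fst]; exact ha
    · rw [← Scheme.Hom.comp_apply, ← Over.comp_left, lift_snd, Hom.inv_def, Over.comp_left, Scheme.Hom.comp_apply]
      exact inv_mem_neutralSet G hb
  inv_mem' {a} ha := by
    show (a⁻¹).left t ∈ SGA3x.neutralSet G
    rw [Hom.inv_def, Over.comp_left, Scheme.Hom.comp_apply]
    exact inv_mem_neutralSet G ha

theorem exists_point (x : G.left) : ∃ (T : Over S) (t : T.left) (g : T ⟶ G),
    ∀ n, x ∈ powSet G n ↔ g ^ n ∈ neutralSubgroup G t := by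
  refine ⟨Over.mk (G.left.fromSpecResidueField x ≫ G.hom), IsLocalRing.closedPoint _,
    Over.homMk (G.left.fromSpecResidueField x) rfl, fun n => ?_⟩
  show _ ↔ ((Over.homMk (G.left.fromSpecResidueField x) rfl :
    Over.mk (G.left.fromSpecResidueField x ≫ G.hom) ⟶ G) ^ n).left (IsLocalRing.closedPoint _) ∈ SGA3x.neutralSet G
  rw [← Category.comp_id (Over.homMk (G.left.fromSpecResidueField x) rfl : Over.mk _ ⟶ G),
    ← MonObj.comp_pow, Over.comp_left, Scheme.Hom.comp_apply]
  show _ ↔ G.left.fromSpecResidueField x (IsLocalRing.closedPoint _) ∈ powSet G n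
  rw [Scheme.fromSpecResidueField_apply]

theorem powSet_dvd {n m : ℕ} (h : n ∣ m) : powSet G n ⊆ powSet G m := fun x hx => by
  obtain ⟨T, t, g, hg⟩ := exists_point G x
  obtain ⟨k, rfl⟩ := h
  rw [hg] at hx ⊢
  rw [pow_mul]
  exact pow_mem hx k

theorem powSet_gcd {x : G.left} {a b : ℕ} (ha : x ∈ powSet G a) (hb : x ∈ powSet G b) :
    x ∈ powSet G (a.gcd b) := by
  obtain ⟨T, t, g, hg⟩ := exists_point G x
  rw [hg] at ha hb ⊢
  rw [← zpow_natCast, Nat.gcd_eq_gcd_ab, zpow_add, zpow_mul, zpow_mul, zpow_natCast, zpow_natCast]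
  exact mul_mem (zpow_mem ha _) (zpow_mem hb _)

theorem pow_apply (a b : ℕ) (x : G.left) :
    ((𝟙 G : G ⟶ G) ^ b).left (((𝟙 G : G ⟶ G) ^ a).left x) = ((𝟙 G : G ⟶ G) ^ (a * b)).left x := by
  rw [← Scheme.Hom.comp_apply, ← Over.comp_left, MonObj.comp_pow, Category.comp_id, ← pow_mul]

theorem mem_powSet_pow_iff (a b : ℕ) (x : G.left) :
    ((𝟙 G : G ⟶ G) ^ a).left x ∈ powSet G b ↔ x ∈ powSet G (a * b) := by
  show _ ∈ SGA3x.neutralSet G ↔ _ ∈ SGA3x.neutralSet G
  rw [pow_apply]

theorem hom_pow_apply (n : ℕ) (x : G.left) : G.hom (((𝟙 G : G ⟶ G) ^ n).left x) = G.hom x := by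
  rw [← Scheme.Hom.comp_apply, Over.w]

theorem map_pow_id {S' : Scheme.{u}} (f : S' ⟶ S) (m : ℕ) :
    (Over.pullback f).map ((𝟙 G : G ⟶ G) ^ m) = (𝟙 (Red.bc f G)) ^ m := by
  refine ((Over.pullback f).homMonoidHom.map_pow (𝟙 G) m).trans ?_
  exact congrArg (fun φ : Red.bc f G ⟶ Red.bc f G => φ ^ m) ((Over.pullback f).map_id G)

theorem isPC_of_isOpen {X : Scheme.{u}} [IsLocallyNoetherian X] {Z : Set X} (hZ : IsOpen Z) : IsPC Z :=
  fun U hU => by
    have : IsAffine (U : Scheme.{u}) := hU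
    have : AlgebraicGeometry.IsNoetherian (U : Scheme.{u}) := {}
    exact (isClopen_cons_of_isConstructible
      (IsRetrocompact.isConstructible (hUopen := hZ.preimage U.ι.continuous)
        (hUcomp := fun _ _ _ => TopologicalSpace.NoetherianSpace.isCompact _))).1

/-- A compact open containing the neutral set over an affine open. -/
theorem exists_compactOpen [LocallyOfFiniteType G.hom] {A : S.Opens} (hA : IsAffineOpen A) :
    ∃ Q : G.left.Opens, IsCompact (Q : Set G.left) ∧
      ∀ g, G.hom g ∈ A → g ∈ SGA3x.neutralSet G → g ∈ Q := by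
  have : CompactSpace (A : Scheme.{u}) := isCompact_iff_compactSpace.1 hA.isCompact
  have : IsAffine (A : Scheme.{u}) := hA
  let GA := Red.bc A.ι G
  have : LocallyOfFiniteType GA.hom := MorphismProperty.pullback_snd (P := @LocallyOfFiniteType) _ _ ‹_›
  obtain ⟨Q₀, hQ₀, hQ₀N⟩ := Groth.Agent.S5323.result (A : Scheme.{u}) GA (fun s =>
    inferInstanceAs (LocallyOfFiniteType (pullback.snd GA.hom ((A : Scheme.{u}).fromSpecResidueField s))))
  let j : GA.left ⟶ G.left := pullback.fst G.hom A.ι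
  refine ⟨j ''ᵁ Q₀, hQ₀.image j.continuous, fun g hgA hgN => ?_⟩
  obtain ⟨z, hz, -⟩ := Scheme.Pullback.exists_preimage_pullback (f := G.hom) (g := A.ι) g ⟨G.hom g, hgA⟩ rfl
  exact ⟨z, hQ₀N (by rw [neutralSet_bc]; show j z ∈ SGA3x.neutralSet G; rwa [show j z = g from hz]), hz⟩

/-- Over a field, among infinitely many powers of a rational point in a compact set two lie in the
same component. -/
theorem exists_sub_mem {k : Type u} [Field k] (H : Over (Spec (CommRingCat.of k))) [GrpObj H]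
    [LocallyOfFiniteType H.hom] {Q : Set H.left} (hQ : IsCompact Q)
    (σ : 𝟙_ (Over (Spec (CommRingCat.of k))) ⟶ H)
    (hσ : ∀ i : ℕ, (σ ^ (i + 1)).left (IsLocalRing.closedPoint k) ∈ Q) :
    ∃ d : ℕ, 0 < d ∧ (σ ^ d).left (IsLocalRing.closedPoint k) ∈ SGA3x.neutralSet H := by
  have : IsLocallyNoetherian H.left := LocallyOfFiniteType.isLocallyNoetherian H.hom
  have : LocallyConnectedSpace H.left :=
    Groth.Agent.Lib.FinCond.locallyConnectedSpace_of_locally_noetherian fun x =>
      Groth.Agent.Lib.FinCond.locally_noetherian H.left x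
  obtain ⟨t, -, ht⟩ := hQ.elim_nhds_subcover (fun x => connectedComponent x)
    (fun x _ => isOpen_connectedComponent.mem_nhds mem_connectedComponent)
  choose c hc hc' using fun i : ℕ => Set.mem_iUnion₂.1 (ht (hσ i))
  obtain ⟨i, l, hil, hcil⟩ := Finite.exists_ne_map_eq_of_infinite fun i => (⟨c i, hc i⟩ : ↥t)
  replace hcil : c i = c l := congrArg Subtype.val hcil
  wlog hlt : i < l generalizing i l
  · exact this l i hil.symm hcil.symm (by omega)
  refine ⟨l - i, by omega, ?_⟩
  set e := IsLocalRing.closedPoint k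
  let R : H ⟶ H := 𝟙 H * (toUnit H ≫ (σ ^ (i + 1))⁻¹)
  have hR : ∀ b : 𝟙_ (Over (Spec (CommRingCat.of k))) ⟶ H,
      R.left (b.left e) = (b * (σ ^ (i + 1))⁻¹).left e := fun b => by
    rw [← Scheme.Hom.comp_apply, ← Over.comp_left, MonObj.comp_mul, Category.comp_id, ← Category.assoc,
      toUnit_unique (b ≫ toUnit H) (𝟙 _), Category.id_comp]
  have hpre : _root_.IsPreconnected (R.left '' connectedComponent (c i)) :=
    isPreconnected_connectedComponent.image _ R.left.continuous.continuousOn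
  rw [neutralSet_field_eq]
  refine hpre.subset_connectedComponent ⟨_, hc' i, ?_⟩ ⟨_, hcil ▸ hc' l, ?_⟩
  · rw [hR, mul_inv_cancel, left_one_apply]
    exact congrArg _ (Subsingleton.elim (α := PrimeSpectrum k) _ _)
  · rw [hR, ← pow_sub σ (by omega), show l + 1 - (i + 1) = l - i by omega]

variable [IsLocallyNoetherian S] [LocallyOfFiniteType G.hom]

theorem isLocallyConstructible_powSet (n : ℕ) : IsLocallyConstructible (powSet G n) := by
  have : LocallyOfFinitePresentation G.hom := inferInstance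
  have : IsLocallyNoetherian G.left := LocallyOfFiniteType.isLocallyNoetherian G.hom
  exact Groth.Agent.H47.ConsPreimage.isLocallyConstructible_preimage ((𝟙 G : G ⟶ G) ^ n).left
    (isLocallyConstructible_neutralSet G)

theorem isPC_compl_powSet (n : ℕ) : IsPC (powSet G n)ᶜ :=
  IsPC.compl_of_isLocallyConstructible (isLocallyConstructible_powSet G n)

omit [IsLocallyNoetherian S] in
/-- Generizations of torsion points are torsion points. -/
theorem exists_pow_mem_of_specializes {x' x : G.left} (h : x' ⤳ x) {n : ℕ} (hn : 0 < n)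
    (hx : x ∈ powSet G n) : ∃ d, 0 < d ∧ x' ∈ powSet G d := by
  obtain ⟨A, hA, hsA, -⟩ := exists_isAffineOpen_mem_and_subset (U := (⊤ : S.Opens)) (x := G.hom x) trivial
  obtain ⟨Q, hQc, hQ⟩ := exists_compactOpen G hA
  have hpQ : ∀ i : ℕ, ((𝟙 G : G ⟶ G) ^ (n * (i + 1))).left x' ∈ Q := fun i =>
    (h.map ((𝟙 G : G ⟶ G) ^ (n * (i + 1))).left.continuous).mem_open Q.2
      (hQ _ (by rw [hom_pow_apply]; exact hsA) (powSet_dvd G (dvd_mul_right n _) hx))
  let k := G.left.residueField x'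
  let f : Spec (CommRingCat.of k) ⟶ S := G.left.fromSpecResidueField x' ≫ G.hom
  let H := Red.bc f G
  let j : H.left ⟶ G.left := pullback.fst G.hom f
  have : LocallyOfFiniteType H.hom := MorphismProperty.pullback_snd (P := @LocallyOfFiniteType) _ _ ‹_›
  have : QuasiCompact f := inferInstance
  have : QuasiCompact j := MorphismProperty.pullback_fst (P := @QuasiCompact) _ _ ‹_›
  let σ₀ : 𝟙_ (Over (Spec (CommRingCat.of k))) ⟶ H :=
    Over.homMk (pullback.lift (G.left.fromSpecResidueField x') (𝟙 _) (by rw [Category.id_comp]))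
      (pullback.lift_snd _ _ _)
  let e := IsLocalRing.closedPoint k
  have hσ₀ : j (σ₀.left e) = x' := by
    show (σ₀.left ≫ j) e = x'
    rw [show σ₀.left ≫ j = G.left.fromSpecResidueField x' from pullback.lift_fst _ _ _]
    exact Scheme.fromSpecResidueField_apply _ _
  have hσ : ∀ m, j ((σ₀ ^ m).left e) = ((𝟙 G : G ⟶ G) ^ m).left x' := fun m => by
    have hcomp : σ₀ ^ m = σ₀ ≫ (Over.pullback f).map ((𝟙 G : G ⟶ G) ^ m) := by
      rw [map_pow_id, MonObj.comp_pow, Category.comp_id]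
    rw [hcomp, Over.comp_left, Scheme.Hom.comp_apply, ← hσ₀, ← Scheme.Hom.comp_apply, ← Scheme.Hom.comp_apply]
    exact congrArg (fun φ : H.left ⟶ G.left => φ (σ₀.left e)) (pullback.lift_fst _ _ _)
  obtain ⟨d, hd, hdN⟩ := exists_sub_mem H (QuasiCompact.isCompact_preimage (f := j) _ Q.2 hQc) (σ₀ ^ n)
    (fun i => by show j _ ∈ Q; rw [← pow_mul, hσ]; exact hpQ i)
  refine ⟨n * d, Nat.mul_pos hn hd, ?_⟩
  rw [neutralSet_bc, ← pow_mul, Set.mem_preimage] at hdN
  show ((𝟙 G : G ⟶ G) ^ (n * d)).left x' ∈ SGA3x.neutralSet G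
  rw [← hσ]
  exact hdN

theorem isIndConstructible_iUnion {I : Sort*} (a : I → ℕ) :
    ProCons.IsIndConstructible (⋃ i, powSet G (a i)) := by
  rw [Lib.ProCons45.Basic.isIndConstructible_iff_isPC, Set.compl_iUnion]
  exact IsPC.iInter fun i => isPC_compl_powSet G (a i)

theorem isOpen_tauSet : IsOpen (tauSet G) := by
  have hE : ProCons.IsIndConstructible (tauSet G) := by
    have : tauSet G = ⋃ n : ℕ, powSet G (n + 1) := by
      ext x
      simp only [Set.mem_iUnion]
      exact ⟨fun ⟨n, hn, hx⟩ => ⟨n - 1, by rwa [Nat.sub_add_cancel hn]⟩, fun ⟨n, hx⟩ => ⟨n + 1, n.succ_pos, hx⟩⟩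
    rw [this]
    exact isIndConstructible_iUnion G _
  rw [← interior_eq_iff_isOpen]
  refine Set.Subset.antisymm interior_subset fun x ⟨n, hn, hx⟩ => ?_
  exact (Lib.ProCons45.Basic.mem_interior_iff hE x).2 fun x' h => exists_pow_mem_of_specializes G h hn hx

/-- On a quasi-compact open the orders are bounded. -/
theorem exists_bound (V : G.left.Opens) (hV : IsCompact (V : Set G.left)) :
    ∃ M : ℕ, ∀ x ∈ V, x ∈ tauSet G → ∃ n, 0 < n ∧ n ≤ M ∧ x ∈ powSet G n := by
  have : IsLocallyNoetherian G.left := LocallyOfFiniteType.isLocallyNoetherian G.hom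
  have : CompactSpace (V : Scheme.{u}) := isCompact_iff_compactSpace.1 hV
  obtain ⟨J, hJ⟩ := Lib.ProCons45.Basic.exists_finset_inter_eq_empty (X := (V : Scheme.{u}))
    ((isPC_of_isOpen (isOpen_tauSet G)).preimage V.ι)
    (A := fun i : ℕ => ⇑V.ι ⁻¹' (powSet G (i + 1))ᶜ)
    (fun i => (isPC_compl_powSet G (i + 1)).preimage V.ι)
    (Set.eq_empty_of_forall_notMem fun y ⟨⟨n, hn, hy⟩, hy'⟩ =>
      Set.mem_iInter.1 hy' (n - 1) (by rwa [Nat.sub_add_cancel hn]))
  refine ⟨J.sup (· + 1), fun x hxV hx => ?_⟩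
  by_contra hne
  refine Set.eq_empty_iff_forall_notMem.1 hJ ⟨x, hxV⟩ ⟨hx, Set.mem_iInter₂.2 fun i hi h => hne ?_⟩
  exact ⟨i + 1, i.succ_pos, Finset.le_sup (f := (· + 1)) hi, h⟩

omit [IsLocallyNoetherian S] [LocallyOfFiniteType G.hom] in
theorem mem_powSet_of_specializes (h0 : IsClosed (SGA3x.neutralSet G)) {x x' : G.left} (h : x' ⤳ x) {n : ℕ}
    (hx : x' ∈ powSet G n) : x ∈ powSet G n :=
  h.mem_closed (h0.preimage ((𝟙 G : G ⟶ G) ^ n).left.continuous) hx

theorem isClosed_tauSet (h0 : IsClosed (SGA3x.neutralSet G)) : IsClosed (tauSet G) := by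
  have : IsLocallyNoetherian G.left := LocallyOfFiniteType.isLocallyNoetherian G.hom
  refine isClosed_of_closure_subset fun y hy => ?_
  obtain ⟨z, ⟨n, hn, hz⟩, hzy⟩ := Lib.Subtrusive.ProConstructible.exists_generization_of_isProConstructible
    (Lib.ProCons45.Basic.isProConstructible_iff_isPC.2 (isPC_of_isOpen (isOpen_tauSet G))) hy
  exact ⟨n, hn, mem_powSet_of_specializes G h0 hzy hz⟩

/-- A set of torsion points is closed if, on every affine open, it is a union of boundedly many closed pieces. -/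
theorem isClosed_of_local (E : Set G.left) (C : ℕ → Set G.left) (hC : ∀ n, IsClosed (C n))
    (hCE : ∀ n, 0 < n → C n ⊆ E)
    (hEC : ∀ x ∈ E, x ∈ tauSet G ∧ ∀ m, 0 < m → x ∈ powSet G m → ∃ n, 0 < n ∧ n ≤ m ∧ x ∈ C n) :
    IsClosed E := by
  rw [← isOpen_compl_iff, isOpen_iff_forall_mem_open]
  intro x hx
  obtain ⟨V, hV, hxV, -⟩ := exists_isAffineOpen_mem_and_subset (U := (⊤ : G.left.Opens)) (x := x) trivial
  obtain ⟨M, hM⟩ := exists_bound G V hV.isCompact
  refine ⟨(V : Set G.left) ∩ (⋃ n ∈ Finset.Ioc 0 M, C n)ᶜ, fun y ⟨hyV, hy⟩ hyE => ?_,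
    V.2.inter (isClosed_biUnion_finset fun n _ => hC n).isOpen_compl, hxV, fun h => ?_⟩
  · obtain ⟨m, hm, hmM, hym⟩ := hM y hyV (hEC y hyE).1
    obtain ⟨n, hn, hnm, hyn⟩ := (hEC y hyE).2 m hm hym
    exact hy (Set.mem_iUnion₂.2 ⟨n, Finset.mem_Ioc.2 ⟨hn, hnm.trans hmM⟩, hyn⟩)
  · obtain ⟨n, hn, hxn⟩ := Set.mem_iUnion₂.1 h
    exact hx (hCE n (Finset.mem_Ioc.1 hn).1 hxn)

omit [IsLocallyNoetherian S] in
theorem ringExpChar_prime_or_one (s : S) :
    (ringExpChar (S.residueField s)).Prime ∨ ringExpChar (S.residueField s) = 1 :=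
  expChar_is_prime_or_one (S.residueField s) _

omit [IsLocallyNoetherian S] [LocallyOfFiniteType G.hom] in
/-- The points whose characteristic exponent has `d` among its powers form a closed set. -/
theorem isClosed_pow_expChar (d : ℕ) :
    IsClosed {s : S | ∃ h, d = ringExpChar (S.residueField s) ^ h} := by
  by_cases hd : d = 1
  · rw [Set.eq_univ_of_forall (s := {s : S | ∃ h, d = _}) fun s => ⟨0, by rw [hd, pow_zero]⟩]
    exact isClosed_univ
  rcases Set.eq_empty_or_nonempty {s : S | ∃ h, d = ringExpChar (S.residueField s) ^ h} with h | ⟨s₀, h₀, hd₀⟩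
  · rw [h]; exact isClosed_empty
  set q := ringExpChar (S.residueField s₀)
  have hq1 : q ≠ 1 := fun h => hd (by rw [hd₀, h, one_pow])
  have hq : q.Prime := (ringExpChar_prime_or_one s₀).resolve_right hq1
  have key : {s : S | ∃ h, d = ringExpChar (S.residueField s) ^ h} = (S.basicOpen (q : Γ(S, ⊤)) : Set S)ᶜ := by
    ext s
    rw [Set.mem_compl_iff, SetLike.mem_coe, ← Scheme.evaluation_eq_zero_iff_notMem_basicOpen S (U := ⊤) s trivial, map_natCast]
    constructor
    · rintro ⟨h, hs⟩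
      have hps : (ringExpChar (S.residueField s)).Prime :=
        (ringExpChar_prime_or_one s).resolve_right fun h1 => hd (by rw [hs, h1, one_pow])
      have : q = ringExpChar (S.residueField s) := by
        refine (Nat.prime_dvd_prime_iff_eq hq hps).1 (hq.dvd_of_dvd_pow (n := h) ?_)
        rw [← hs, hd₀]
        exact dvd_pow_self q fun h' => hd (by rw [hd₀, h', pow_zero])
      have hc : ringChar (S.residueField s) = q := by
        rw [this, ringExpChar]
        have := hq.one_lt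
        simp only [ringExpChar] at *
        omega
      rw [← hc]
      exact ringChar.Nat.cast_ringChar
    · intro hs
      refine ⟨h₀, ?_⟩
      have hdvd : ringChar (S.residueField s) ∣ q := ringChar.dvd hs
      have hne : ringChar (S.residueField s) ≠ 1 := CharP.ringChar_ne_one
      rw [show ringExpChar (S.residueField s) = q by
        rw [ringExpChar, (hq.eq_one_or_self_of_dvd _ hdvd).resolve_left hne]
        exact max_eq_left hq.one_lt.le]
      exact hd₀
  rw [key]
  exact (S.basicOpen _).2.isClosed_compl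

omit [IsLocallyNoetherian S] [LocallyOfFiniteType G.hom] in
theorem dvd_pow_bound {d m j M : ℕ} (hd : 0 < d) (hM : d ≤ M) (h : d ∣ m ^ j) : d ∣ m ^ M := by
  rw [Nat.dvd_iff_prime_pow_dvd_dvd]
  intro q k hq hqk
  rcases Nat.eq_zero_or_pos k with rfl | hk
  · simp
  have hqm : q ∣ m := hq.dvd_of_dvd_pow (((dvd_pow_self q hk.ne').trans hqk).trans h)
  have hkM : k ≤ M := ((Nat.lt_pow_self hq.one_lt).le.trans (Nat.le_of_dvd hd hqk)).trans hM
  exact (pow_dvd_pow q hkM).trans (pow_dvd_pow_of_dvd hqm M)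

/-- If the power maps of exponent prime to `p` are open, a point one of whose powers prime to `p` is neutral
and which specializes to a neutral point is neutral. -/
theorem mem_neutralSet_of_isOpenMap [IsCommMonObj G] {z w : G.left} (hzw : z ⤳ w)
    (hw : w ∈ SGA3x.neutralSet G) {m : ℕ} (hm : 0 < m) (hz : z ∈ powSet G m)
    (hopen : ∀ k, IsOpenMap ((𝟙 G : G ⟶ G) ^ (m ^ k)).left) : z ∈ SGA3x.neutralSet G := by
  obtain ⟨A, hA, hsA, -⟩ := exists_isAffineOpen_mem_and_subset (U := (⊤ : S.Opens)) (x := G.hom w) trivial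
  obtain ⟨Q, hQc, hQ⟩ := exists_compactOpen G hA
  obtain ⟨M, hM⟩ := exists_bound G Q hQc
  have : IsMonHom ((𝟙 G : G ⟶ G) ^ (m ^ M)) := Groth.Agent.H4.NPowEtale.isMonHom_pow_id G _
  have himg : ((𝟙 G : G ⟶ G) ^ (m ^ M)).left '' SGA3x.neutralSet G = SGA3x.neutralSet G := by
    refine image_neutralSet_of_fibres _ fun s U hU => ?_
    obtain ⟨W, hW, rfl⟩ := (G.hom.fiberι s).isEmbedding.isInducing.isOpen_iff.1 hU
    refine (congrArg IsOpen ?_).mpr ((hopen M W hW).preimage (G.hom.fiberι s).continuous)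
    refine Set.ext fun y => ?_
    constructor
    · rintro ⟨z, hz, rfl⟩
      exact ⟨_, hz, (map_fst_apply _ s z).symm⟩
    · rintro ⟨w', hw', hy⟩
      obtain ⟨z, rfl⟩ : w' ∈ Set.range (G.hom.fiberι s) := by
        rw [Scheme.Hom.range_fiberι, Set.mem_preimage, Set.mem_singleton_iff, ← hom_pow_apply G (m ^ M) w', hy]
        exact Set.mem_singleton_iff.1 ((Scheme.Hom.range_fiberι G.hom s).le ⟨y, rfl⟩)
      refine ⟨z, hw', (G.hom.fiberι s).isEmbedding.injective ?_⟩
      exact (map_fst_apply _ s z).trans hy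
  obtain ⟨v, hvN, hvw⟩ := himg.ge hw
  have hvQ : v ∈ Q := hQ v (by rw [← hom_pow_apply G (m ^ M) v, hvw]; exact hsA) hvN
  obtain ⟨v', hv'Q, hv'⟩ := hzw.mem_open (hopen M _ Q.2) ⟨v, hvQ, hvw⟩
  have hv'pow : v' ∈ powSet G (m ^ M * m) := by rwa [← mem_powSet_pow_iff, hv']
  obtain ⟨e, he, heM, hv'e⟩ := hM v' hv'Q ⟨_, Nat.mul_pos (pow_pos hm M) hm, hv'pow⟩
  have hd : v' ∈ powSet G (m ^ M) := powSet_dvd G (dvd_pow_bound (j := M + 1) (Nat.gcd_pos_of_pos_left _ he)
    ((Nat.le_of_dvd he (Nat.gcd_dvd_left _ (m ^ M * m))).trans heM)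
    (by rw [pow_succ]; exact Nat.gcd_dvd_right _ _)) (powSet_gcd G hv'e hv'pow)
  exact hv' ▸ hd

end Groth.Agent.Lib.TorsionSet
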